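import Groth.Agent.QuarticSing.Conic

/-!
# A squarefree plane quartic has at most six singular points
-/

noncomputable section

set_option autoImplicit false
set_option linter.style.haveILetI false
set_option linter.unusedSectionVars false
set_option maxHeartbeats 1000000

open MvPolynomial

namespace Groth.Agent.QuarticSing

universe u

variable {k : Type u} [Field k] [IsAlgClosed k]

/-- The projective plane. -/
abbrev Pl (k : Type u) [Field k] : Type u := Projectivization k (Fin 3 → k)

/-- At most `N` singular points. -/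
def Bd (h : MvPolynomial (Fin 3) k) (N : ℕ) : Prop :=
  ∀ s : Finset (Pl k), (∀ p ∈ s, SingAt h p.rep) → s.card ≤ N

theorem li_pair {p q : Pl k} (h : p ≠ q) : LinearIndependent k ![p.rep, q.rep] :=
  Projectivization.linearIndependent_pair_iff_ne.2 h

theorem exists_line_of_two {h : MvPolynomial (Fin 3) k} {e : ℕ} (hh : h.IsHomogeneous e) (he : e ≤ 3)
    {p q : Pl k} (hpq : p ≠ q) (hp : SingAt h p.rep) (hq : SingAt h q.rep) :
    ∃ c : Fin 3 → k, c ≠ 0 ∧ linForm c ∣ h := by
  classical
  have hli : LinearIndependent k ![p.rep, q.rep - p.rep] := by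
    rw [LinearIndependent.pair_iff]
    intro a b hab
    have hb : (a - b) • p.rep + b • q.rep = 0 := by
      rw [← hab, sub_smul, smul_sub]
      abel
    obtain ⟨h1, h2⟩ := LinearIndependent.pair_iff.1 (li_pair hpq) _ _ hb
    rw [h2, sub_zero] at h1
    exact ⟨h1, h2⟩
  -- the parameters 0 and 1 give the two points
  have h0 : subst (lineParam p.rep (q.rep - p.rep)) h = 0 := by
    refine eq_zero_of_double_roots (d := e) ?_ {0, 1} ?_ (by rw [Finset.card_pair zero_ne_one]; omega)
    · have := (natDegree_subst_le (natDegree_lineParam p.rep (q.rep - p.rep)) hh).1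
      rwa [one_mul] at this
    · intro s hs
      refine double_root_of_singAt _ s ?_
      rw [eval_lineParam]
      rcases Finset.mem_insert.1 hs with rfl | hs
      · rwa [zero_smul, add_zero]
      · rw [Finset.mem_singleton] at hs
        subst hs
        rwa [one_smul, add_sub_cancel]
  refine exists_linForm_dvd hh p.rep (q.rep - p.rep) hli ?_ h0
  have hd := natDegree_subst_le (natDegree_lineParam p.rep (q.rep - p.rep)) hh
  rw [coeff_lineParam, h0, Polynomial.coeff_zero] at hd
  exact hd.2.symm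

theorem exists_line_of_three {h : MvPolynomial (Fin 3) k} {e : ℕ} (hh : h.IsHomogeneous e) (he : e ≤ 4)
    (p q : Fin 3 → k) (hli : LinearIndependent k ![p, q])
    (hp : SingAt h p) (hq : SingAt h q) (hr : SingAt h (p + q)) :
    ∃ c : Fin 3 → k, c ≠ 0 ∧ linForm c ∣ h := by
  classical
  refine exists_linForm_dvd hh p q hli hq.1 ?_
  refine eq_zero_of_double_roots (natDegree_line hh p q hq.1) {0, 1} ?_
    (by rw [Finset.card_pair zero_ne_one]; omega)
  intro s hs
  refine double_root_of_singAt _ s ?_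
  rw [eval_lineParam]
  rcases Finset.mem_insert.1 hs with rfl | hs
  · rwa [zero_smul, add_zero]
  · rw [Finset.mem_singleton] at hs
    subst hs
    rwa [one_smul]

theorem zeros_on_line {c : Fin 3 → k} (hc : c ≠ 0) {C' : MvPolynomial (Fin 3) k} {e : ℕ} (hh : C'.IsHomogeneous e)
    (T : Finset (Pl k)) (hT : ∀ p ∈ T, eval p.rep (linForm c) = 0 ∧ eval p.rep C' = 0)
    (hnd : ¬ linForm c ∣ C') : T.card ≤ e := by
  classical
  by_contra hlt
  push Not at hlt
  apply hnd
  by_cases he : e = 0
  · obtain ⟨p, hp⟩ := Finset.card_pos.1 (by omega : 0 < T.card)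
    have hC : C' = C (coeff 0 C') := by
      rw [← homogeneousComponent_zero]
      exact (homogeneousComponent_eq_self (he ▸ hh)).symm
    have := (hT p hp).2
    rw [hC, eval_C] at this
    rw [hC, this, map_zero]
    exact dvd_zero _
  obtain ⟨q, hq⟩ := Finset.card_pos.1 (by omega : 0 < T.card)
  obtain ⟨p, hp⟩ := Finset.card_pos.1 (by rw [Finset.card_erase_of_mem hq]; omega : 0 < (T.erase q).card)
  obtain ⟨hpq, hp⟩ := Finset.mem_erase.1 hp
  let f : (Fin 3 → k) →ₗ[k] k :=
    { toFun := fun v => eval v (linForm c)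
      map_add' := fun v v' => by simp only [eval_linForm, Pi.add_apply, mul_add, Finset.sum_add_distrib]
      map_smul' := fun a v => by
        simp only [eval_linForm, Pi.smul_apply, smul_eq_mul, RingHom.id_apply, Finset.mul_sum]
        exact Finset.sum_congr rfl fun i _ => by ring }
  have hf : f ≠ 0 := fun h => hc (funext fun i => by
    have h' : eval (Pi.single i 1) (linForm c) = 0 := LinearMap.congr_fun h (Pi.single i 1)
    simpa [eval_linForm, Pi.single_apply] using h')
  have hdim : Module.finrank k (LinearMap.ker f) = 2 := by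
    have h1 := LinearMap.finrank_range_add_finrank_ker f
    rw [LinearMap.range_eq_top.2 (LinearMap.surjective hf), finrank_top, Module.finrank_self, Module.finrank_fin_fun] at h1
    omega
  let W := Submodule.span k (Set.range ![p.rep, q.rep])
  have hW : W = LinearMap.ker f := by
    refine Submodule.eq_of_le_of_finrank_le ?_ ?_
    · rw [Submodule.span_le]
      rintro _ ⟨i, rfl⟩
      fin_cases i
      · exact (hT p hp).1
      · exact (hT q hq).1
    · rw [hdim, finrank_span_eq_card (li_pair hpq)]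
      rfl
  have hmem : ∀ r ∈ T.erase q, ∃ s : k, ∃ a : k, a ≠ 0 ∧ r.rep = a • (p.rep + s • q.rep) := by
    intro r hr
    obtain ⟨hrq, hr⟩ := Finset.mem_erase.1 hr
    have h1 : r.rep ∈ W := hW ▸ LinearMap.mem_ker.2 (hT r hr).1
    obtain ⟨a, ha⟩ := (Submodule.mem_span_range_iff_exists_fun k).1 h1
    rw [Fin.sum_univ_two] at ha
    have ha0 : a 0 ≠ 0 := fun h0 => by
      apply hrq
      have h2 : r.rep = a 1 • q.rep := by rw [← ha, h0, zero_smul, zero_add]; rfl
      rw [← r.mk_rep, ← q.mk_rep]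
      exact (Projectivization.mk_eq_mk_iff' k _ _ _ _).2 ⟨a 1, h2.symm⟩
    refine ⟨a 1 / a 0, a 0, ha0, ?_⟩
    rw [smul_add, smul_smul, mul_div_cancel₀ _ ha0]
    exact ha.symm
  choose! σ α hα hσ using hmem
  have hinj : Set.InjOn σ (T.erase q : Finset (Pl k)) := fun r hr r' hr' heq => by
    rw [← r.mk_rep, ← r'.mk_rep]
    refine (Projectivization.mk_eq_mk_iff' k _ _ _ _).2 ⟨α r / α r', ?_⟩
    rw [hσ r hr, hσ r' hr', smul_smul, div_mul_cancel₀ _ (hα r' hr'), heq]
  have hz : subst (lineParam p.rep q.rep) C' = 0 := by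
    refine eq_zero_of_roots (natDegree_line hh p.rep q.rep (hT q hq).2) ((T.erase q).image σ) ?_ ?_
    · intro s hs
      obtain ⟨r, hr, rfl⟩ := Finset.mem_image.1 hs
      rw [eval_subst, eval_lineParam]
      have h1 := (hT r (Finset.mem_of_mem_erase hr)).2
      rw [hσ r hr, eval_smul_form hh] at h1
      exact (mul_eq_zero.1 h1).resolve_left (pow_ne_zero _ (hα r hr))
    · rw [Finset.card_image_of_injOn hinj, Finset.card_erase_of_mem hq]
      omega
  refine dvd_of_vanish (linForm_prime hc) fun v hv => ?_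
  have h1 : v ∈ W := hW ▸ LinearMap.mem_ker.2 hv
  obtain ⟨a, ha⟩ := (Submodule.mem_span_range_iff_exists_fun k).1 h1
  rw [← ha, Fin.sum_univ_two]
  exact vanish_span_pair hh p.rep q.rep (hT q hq).2 hz _ _

theorem bd_split {c : Fin 3 → k} (hc : c ≠ 0) {C' : MvPolynomial (Fin 3) k} {e N : ℕ} (hC : C'.IsHomogeneous e)
    (hsq : Squarefree (linForm c * C')) (hN : Bd C' N) : Bd (linForm c * C') (e + N) := by
  classical
  intro s hs
  rw [← Finset.card_filter_add_card_filter_not (s := s) fun p => eval p.rep (linForm c) = 0]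
  refine add_le_add (zeros_on_line hc hC _ (fun p hp => ?_) ?_) (hN _ fun p hp => ?_)
  · obtain ⟨hps, hp0⟩ := Finset.mem_filter.1 hp
    refine ⟨hp0, ?_⟩
    obtain ⟨i, hi⟩ := Function.ne_iff.1 hc
    have := (hs p hps).2 i
    rw [pderiv_mul, map_add, map_mul, map_mul, hp0, zero_mul, add_zero, pderiv_linForm, eval_C] at this
    exact (mul_eq_zero.1 this).resolve_left hi
  · exact fun hd => (linForm_prime hc).not_isUnit (hsq _ (mul_dvd_mul_left _ hd))
  · obtain ⟨hps, hp0⟩ := Finset.mem_filter.1 hp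
    have h0 : eval p.rep C' = 0 := by
      have := (hs p hps).1
      rw [map_mul] at this
      exact (mul_eq_zero.1 this).resolve_left hp0
    refine ⟨h0, fun i => ?_⟩
    have := (hs p hps).2 i
    rw [pderiv_mul, map_add, map_mul, map_mul, h0, mul_zero, zero_add] at this
    exact (mul_eq_zero.1 this).resolve_left hp0

theorem bd_one {h : MvPolynomial (Fin 3) k} (hh : h.IsHomogeneous 1) (h0 : h ≠ 0) : Bd h 0 := by
  intro s hs
  refine Nat.le_zero.2 (Finset.card_eq_zero.2 (Finset.eq_empty_of_forall_notMem fun p hp => ?_))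
  have hm := (mem_homogeneousSubmodule 1 h).2 hh
  rw [homogeneousSubmodule_one_eq_span_X] at hm
  obtain ⟨c, rfl⟩ := (Submodule.mem_span_range_iff_exists_fun k).1 hm
  have hlin : (∑ i, c i • X i : MvPolynomial (Fin 3) k) = linForm c := by simp [linForm, smul_eq_C_mul]
  refine h0 ?_
  rw [hlin]
  have hc : c = 0 := funext fun i => by
    have := (hs p hp).2 i
    rwa [hlin, pderiv_linForm, eval_C] at this
  simp [hc, linForm]

theorem bd_step {h : MvPolynomial (Fin 3) k} {e N : ℕ} (he : e + 1 ≤ 3) (hh : h.IsHomogeneous (e + 1))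
    (hsq : Squarefree h)
    (ih : ∀ C' : MvPolynomial (Fin 3) k, C'.IsHomogeneous e → Squarefree C' → Bd C' N) :
    Bd h (max 1 (e + N)) := by
  classical
  by_cases hl : ∃ c : Fin 3 → k, c ≠ 0 ∧ linForm c ∣ h
  · obtain ⟨c, hc, C', rfl⟩ := hl
    have hC := isHomogeneous_of_linForm_mul hc hh
    exact fun s hs => (bd_split hc hC hsq (ih C' hC (hsq.of_mul_right)) s hs).trans (le_max_right _ _)
  · intro s hs
    refine le_trans ?_ (le_max_left _ _)
    by_contra hlt
    obtain ⟨p, hp, q, hq, hpq⟩ := Finset.one_lt_card.1 (by omega : 1 < s.card)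
    exact hl (exists_line_of_two hh he hpq (hs p hp) (hs q hq))

theorem bd_three {h : MvPolynomial (Fin 3) k} (hh : h.IsHomogeneous 3) (hsq : Squarefree h) : Bd h 3 := by
  have h2 : ∀ C' : MvPolynomial (Fin 3) k, C'.IsHomogeneous 2 → Squarefree C' → Bd C' 1 := fun C' h1 h2 =>
    bd_step (e := 1) (N := 0) (by norm_num) h1 h2 fun D hD hD' => bd_one hD hD'.ne_zero
  exact bd_step (e := 2) (N := 1) (by norm_num) hh hsq h2

theorem bd_four {f : MvPolynomial (Fin 3) k} (hh : f.IsHomogeneous 4) (hsq : Squarefree f) : Bd f 6 := by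
  classical
  by_cases hl : ∃ c : Fin 3 → k, c ≠ 0 ∧ linForm c ∣ f
  · obtain ⟨c, hc, C', rfl⟩ := hl
    have hC := isHomogeneous_of_linForm_mul (e := 3) hc hh
    exact bd_split hc hC hsq (bd_three hC hsq.of_mul_right)
  intro s hs
  refine le_trans ?_ (by norm_num : 4 ≤ 6)
  by_contra hlt
  obtain ⟨t, hts, ht⟩ := Finset.exists_subset_card_eq (by omega : 5 ≤ s.card)
  let ev := (t.equivFin.trans (finCongr ht)).symm
  let v : Fin 5 → (Fin 3 → k) := fun i => (ev i).1.rep
  have hv : ∀ i, SingAt f (v i) := fun i => hs _ (hts (ev i).2)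
  have hpair : ∀ i j, i ≠ j → LinearIndependent k ![v i, v j] := fun i j hij =>
    li_pair fun h => hij (ev.injective (Subtype.ext h))
  -- no three of the points are collinear
  have htri : ∀ i j l : Fin 5, i ≠ j → i ≠ l → j ≠ l → ∀ a b c : k,
      a • v i + b • v j + c • v l = 0 → a = 0 ∧ b = 0 ∧ c = 0 := by
    intro i j l hij hil hjl a b c habc
    by_cases hc0 : c = 0
    · subst hc0
      rw [zero_smul, add_zero] at habc
      obtain ⟨h1, h2⟩ := LinearIndependent.pair_iff.1 (hpair i j hij) a b habc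
      exact ⟨h1, h2, rfl⟩
    exfalso
    have ha : a ≠ 0 := fun ha => by
      subst ha
      rw [zero_smul, zero_add] at habc
      exact hc0 (LinearIndependent.pair_iff.1 (hpair j l hjl) b c habc).2
    have hb : b ≠ 0 := fun hb => by
      subst hb
      rw [zero_smul, add_zero] at habc
      exact hc0 (LinearIndependent.pair_iff.1 (hpair i l hil) a c habc).2
    refine hl (exists_line_of_three hh le_rfl (a • v i) (b • v j) ?_ ((hv i).smul hh a) ((hv j).smul hh b) ?_)
    · rw [LinearIndependent.pair_iff]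
      intro x y hxy
      rw [smul_smul, smul_smul] at hxy
      obtain ⟨h1, h2⟩ := LinearIndependent.pair_iff.1 (hpair i j hij) _ _ hxy
      exact ⟨(mul_eq_zero.1 h1).resolve_right ha, (mul_eq_zero.1 h2).resolve_right hb⟩
    · rw [show a • v i + b • v j = (-c) • v l by rw [neg_smul]; exact eq_neg_of_add_eq_zero_left habc]
      exact (hv l).smul hh (-c)
  -- coordinates in which the first three points are the coordinate points
  let P : Matrix (Fin 3) (Fin 3) k := fun i j => v (Fin.castLE (by norm_num) j) i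
  have hPmul : ∀ x : Fin 3 → k, P.mulVec x = x 0 • v 0 + x 1 • v 1 + x 2 • v 2 := by
    intro x
    funext i
    simp [P, Matrix.mulVec, dotProduct, Fin.sum_univ_three, mul_comm]
  have hdet : P.det ≠ 0 := fun h0 => by
    obtain ⟨x, hx0, hx⟩ := Matrix.exists_mulVec_eq_zero_iff.2 h0
    rw [hPmul] at hx
    obtain ⟨h1, h2, h3⟩ := htri 0 1 2 (by decide) (by decide) (by decide) _ _ _ hx
    exact hx0 (funext fun i => by fin_cases i <;> assumption)
  let A := P⁻¹
  have hPA : P * A = 1 := Matrix.mul_nonsing_inv _ (Ne.isUnit hdet)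
  let g := bind₁ (DiscForm.lin P) f
  have hg : g.IsHomogeneous 4 := DiscForm.bind₁_isHomogeneous P hh
  have hback : ∀ p, bind₁ (DiscForm.lin A) (bind₁ (DiscForm.lin P) p) = p := fun p => by
    rw [bind₁_bind₁]
    simp [DiscForm.bind₁_lin_lin, hPA, DiscForm.lin_one]
  have hgsq : Squarefree g := fun x hx => by
    have h1 : bind₁ (DiscForm.lin A) x * bind₁ (DiscForm.lin A) x ∣ f := by
      rw [← map_mul, ← hback f]
      exact map_dvd _ hx
    have hAP : A * P = 1 := Matrix.nonsing_inv_mul _ (Ne.isUnit hdet)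
    have h2 : bind₁ (DiscForm.lin P) (bind₁ (DiscForm.lin A) x) = x := by
      rw [bind₁_bind₁]
      simp [DiscForm.bind₁_lin_lin, hAP, DiscForm.lin_one]
    rw [← h2]
    exact (hsq _ h1).map _
  have hsing : ∀ x : Fin 3 → k, SingAt f (P.mulVec x) → SingAt g x := fun x hx => by
    refine ⟨?_, fun i => ?_⟩
    · rw [DiscForm.eval_bind₁]; simp only [DiscForm.eval_lin]; exact hx.1
    · rw [DiscForm.pderiv_bind₁_lin, map_sum]
      refine Finset.sum_eq_zero fun j _ => ?_
      rw [map_mul, DiscForm.eval_bind₁]; simp only [DiscForm.eval_lin]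
      rw [hx.2 j, mul_zero]
  let l : Fin 2 → Fin 5 := ![3, 4]
  let w : Fin 2 → Fin 3 → k := fun i => A.mulVec (v (l i))
  have hPw : ∀ i, w i 0 • v 0 + w i 1 • v 1 + w i 2 • v 2 = v (l i) := fun i => by
    rw [← hPmul, Matrix.mulVec_mulVec, hPA, Matrix.one_mulVec]
  have hneg : ∀ {x y : Fin 3 → k}, x = y → x + (-1 : k) • y = 0 := fun h => by rw [h, neg_one_smul, add_neg_cancel]
  have h3 := hPw 0
  have h4 := hPw 1
  refine false_of_five_normalised g hg hgsq w ?_ ?_ ?_ ?_ (fun j => hsing _ ?_) (fun i => hsing _ ?_)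
  · intro i j h0
    have hi := hPw i
    have hl01 : l i ≠ 0 ∧ l i ≠ 1 ∧ l i ≠ 2 := by fin_cases i <;> simp [l] <;> decide
    fin_cases j <;> simp at h0 <;> rw [h0, zero_smul] at hi
    · rw [zero_add] at hi
      exact neg_ne_zero.2 one_ne_zero (htri 1 2 (l i) (by decide) hl01.2.1.symm hl01.2.2.symm _ _ (-1) (hneg hi)).2.2
    · rw [add_zero] at hi
      exact neg_ne_zero.2 one_ne_zero (htri 0 2 (l i) (by decide) hl01.1.symm hl01.2.2.symm _ _ (-1) (hneg hi)).2.2
    · rw [add_zero] at hi
      exact neg_ne_zero.2 one_ne_zero (htri 0 1 (l i) (by decide) hl01.1.symm hl01.2.1.symm _ _ (-1) (hneg hi)).2.2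
  · intro h
    have hx : (w 0 1) • v 4 + (-w 1 1) • v 3 + (w 1 1 * w 0 2 - w 0 1 * w 1 2) • v 2 = 0 := by
      funext i
      have e3 := congrFun h3 i
      have e4 := congrFun h4 i
      simp [l] at e3 e4
      simp
      linear_combination (-(w 0 1)) * e4 + (w 1 1) * e3 + (v 0 i) * h
    obtain ⟨h1, -, -⟩ := htri 4 3 2 (by decide) (by decide) (by decide) _ _ _ hx
    obtain ⟨-, h1', -⟩ := htri 4 3 2 (by decide) (by decide) (by decide) _ _ _ hx
    rw [h1, zero_mul] at h
    rw [neg_eq_zero] at h1'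
    rw [h1', mul_zero] at h
    have hx' : v 3 = w 0 0 • v 0 + w 0 2 • v 2 := by
      rw [show v 3 = v (l 0) from rfl, ← h3, h1, zero_smul, add_zero]
    exact neg_ne_zero.2 one_ne_zero (htri 0 2 3 (by decide) (by decide) (by decide) _ _ (-1) (hneg hx'.symm)).2.2
  · intro h
    have hx : (w 0 1) • v 4 + (-w 1 1) • v 3 + (w 1 1 * w 0 0 - w 0 1 * w 1 0) • v 0 = 0 := by
      funext i
      have e3 := congrFun h3 i
      have e4 := congrFun h4 i
      simp [l] at e3 e4
      simp
      linear_combination (-(w 0 1)) * e4 + (w 1 1) * e3 + (v 2 i) * h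
    obtain ⟨h1, -, -⟩ := htri 4 3 0 (by decide) (by decide) (by decide) _ _ _ hx
    have hx' : v 3 = w 0 0 • v 0 + w 0 2 • v 2 := by
      rw [show v 3 = v (l 0) from rfl, ← h3, h1, zero_smul, add_zero]
    exact neg_ne_zero.2 one_ne_zero (htri 0 2 3 (by decide) (by decide) (by decide) _ _ (-1) (hneg hx'.symm)).2.2
  · intro h
    have hx : (w 0 0) • v 4 + (-w 1 0) • v 3 + (w 1 0 * w 0 1 - w 0 0 * w 1 1) • v 1 = 0 := by
      funext i
      have e3 := congrFun h3 i
      have e4 := congrFun h4 i
      simp [l] at e3 e4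
      simp
      linear_combination (-(w 0 0)) * e4 + (w 1 0) * e3 + (v 2 i) * h
    obtain ⟨h1, -, -⟩ := htri 4 3 1 (by decide) (by decide) (by decide) _ _ _ hx
    have hx' : v 3 = w 0 1 • v 1 + w 0 2 • v 2 := by
      rw [show v 3 = v (l 0) from rfl, ← h3, h1, zero_smul, zero_add]
    exact neg_ne_zero.2 one_ne_zero (htri 1 2 3 (by decide) (by decide) (by decide) _ _ (-1) (hneg hx'.symm)).2.2
  · rw [hPmul]
    fin_cases j <;> simpa using hv _
  · show SingAt f (P.mulVec (A.mulVec (v (l i))))
    rw [Matrix.mulVec_mulVec, hPA, Matrix.one_mulVec]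
    exact hv _

end Groth.Agent.QuarticSing
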