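import Groth.Agent.QuarticSing.Tools

/-!
# A squarefree quartic has no five singular points in general position
-/

noncomputable section

set_option autoImplicit false
set_option linter.style.haveILetI false
set_option linter.unusedSectionVars false
set_option maxHeartbeats 1000000

open MvPolynomial

namespace Groth.Agent.QuarticSing

universe u

variable {k : Type u} [Field k]

theorem isHomogeneous_of_mul {Q C' : MvPolynomial (Fin 3) k} {a e : ℕ} (hQ : Q.IsHomogeneous a) (hQ0 : Q ≠ 0)
    (h : (Q * C').IsHomogeneous (a + e)) : C'.IsHomogeneous e := by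
  classical
  have hterm : ∀ j, Q * homogeneousComponent j C' = homogeneousComponent (j + a) (Q * C') := by
    intro j
    rw [mul_comm Q, mul_comm Q]
    conv_rhs => rw [← sum_homogeneousComponent C', Finset.sum_mul, map_sum]
    rw [Finset.sum_eq_single j]
    · rw [homogeneousComponent_of_mem ((homogeneousComponent_isHomogeneous j C').mul hQ), if_pos rfl]
    · intro b _ hb
      rw [homogeneousComponent_of_mem ((homogeneousComponent_isHomogeneous b C').mul hQ), if_neg (by omega)]
    · intro hj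
      rw [homogeneousComponent_eq_zero j C' (by rw [Finset.mem_range] at hj; omega), zero_mul, map_zero]
  have hz : ∀ j, j ≠ e → homogeneousComponent j C' = 0 := fun j hj => by
    have h1 := hterm j
    rw [homogeneousComponent_of_mem h, if_neg (by omega)] at h1
    exact (mul_eq_zero.1 h1).resolve_left hQ0
  rw [← sum_homogeneousComponent C']
  refine IsHomogeneous.sum _ _ _ fun j _ => ?_
  by_cases hj : j = e
  · exact hj ▸ homogeneousComponent_isHomogeneous j C'
  · rw [hz j hj]; exact isHomogeneous_zero _ _ _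

/-- The conic through the three coordinate points. -/
def conic (a b c : k) : MvPolynomial (Fin 3) k := (C a * X 1 + C c * X 2) * X 0 + C b * X 1 * X 2

theorem conic_isHomogeneous (a b c : k) : (conic a b c).IsHomogeneous 2 :=
  (((isHomogeneous_C_mul_X a _).add (isHomogeneous_C_mul_X c _)).mul (isHomogeneous_X _ _)).add
    ((isHomogeneous_C_mul_X b _).mul (isHomogeneous_X _ _))

theorem eval_conic (a b c : k) (v : Fin 3 → k) :
    eval v (conic a b c) = (a * v 1 + c * v 2) * v 0 + b * v 1 * v 2 := by simp [conic]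

theorem conic_prime {a b c : k} (ha : a ≠ 0) (hb : b ≠ 0) (hc : c ≠ 0) : Prime (conic a b c) := by
  classical
  have hlin : C a * X 1 + C c * X 2 = linForm (![0, a, c] : Fin 3 → k) := by
    simp [linForm, Fin.sum_univ_three]
  have hne : (![0, a, c] : Fin 3 → k) ≠ 0 := fun h => ha (by simpa using congrFun h 1)
  have hvars : ∀ (i : Fin 3) (p : MvPolynomial (Fin 3) k), p = X i → (0 : Fin 3) ∈ p.vars → i = 0 := by
    intro i p hp h0
    rw [hp, vars_X, Finset.mem_singleton] at h0
    exact h0.symm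
  refine irreducible_iff_prime.1 (irreducible_mul_X_add _ _ 0 ?_ ?_ ?_ ?_)
  · rw [hlin]; exact (linForm_prime hne).ne_zero
  · intro h0
    rcases Finset.mem_union.1 (vars_add_subset _ _ h0) with h | h <;>
      rcases Finset.mem_union.1 (vars_mul _ _ h) with h' | h'
    · simp at h'
    · exact absurd (hvars 1 _ rfl h') (by decide)
    · simp at h'
    · exact absurd (hvars 2 _ rfl h') (by decide)
  · intro h0
    rcases Finset.mem_union.1 (vars_mul _ _ h0) with h | h
    · rcases Finset.mem_union.1 (vars_mul _ _ h) with h' | h'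
      · simp at h'
      · exact absurd (hvars 1 _ rfl h') (by decide)
    · exact absurd (hvars 2 _ rfl h) (by decide)
  · rw [hlin]
    refine (linForm_prime hne).irreducible.isRelPrime_iff_not_dvd.2 fun ⟨r, hr⟩ => ?_
    have h := congrArg (eval ![0, c, -a]) hr
    simp only [map_mul, eval_linForm] at h
    simp [Fin.sum_univ_three, mul_comm a c, hb, hc, ha] at h

/-- The parametrisation of the conic. -/
def conicParam (a b c : k) : Fin 3 → Polynomial k :=
  ![-(Polynomial.C b * Polynomial.X + Polynomial.C c),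
    -(Polynomial.C b * Polynomial.X + Polynomial.C c) * Polynomial.X,
    Polynomial.C a * Polynomial.X]

theorem eval_conicParam (a b c s : k) :
    (fun i => (conicParam a b c i).eval s) = ![-(b * s + c), -(b * s + c) * s, a * s] := by
  funext i
  fin_cases i <;> simp [conicParam]

theorem natDegree_conicParam (a b c : k) (i : Fin 3) : (conicParam a b c i).natDegree ≤ 2 := by
  fin_cases i <;> simp only [conicParam, Fin.zero_eta, Fin.mk_one, Fin.reduceFinMk, Matrix.cons_val] <;> compute_degree!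

theorem coeff_conicParam (a b c : k) : (fun i => (conicParam a b c i).coeff 2) = ![0, -b, 0] := by
  funext i
  fin_cases i <;> simp [conicParam, Polynomial.coeff_X, Polynomial.coeff_C, add_mul, neg_mul, mul_assoc]

theorem conic_param_smul {a b c : k} (ha : a ≠ 0) (hc : c ≠ 0) {v : Fin 3 → k} (hv : eval v (conic a b c) = 0)
    (hx : v 0 ≠ 0) :
    b * v 1 + c * v 0 ≠ 0 ∧ v = (-(v 0) / (b * (v 1 / v 0) + c)) • (fun i => (conicParam a b c i).eval (v 1 / v 0)) := by
  rw [eval_conic] at hv
  have hd : b * v 1 + c * v 0 ≠ 0 := by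
    intro h0
    have h1 : a * v 1 * v 0 = 0 := by linear_combination hv - (v 2) * h0
    have hy : v 1 = 0 := (mul_eq_zero.1 ((mul_eq_zero.1 h1).resolve_right hx)).resolve_left ha
    rw [hy, mul_zero, zero_add] at h0
    exact hx ((mul_eq_zero.1 h0).resolve_left hc)
  refine ⟨hd, ?_⟩
  have hd' : b * (v 1 / v 0) + c ≠ 0 := by
    intro h0
    apply hd
    field_simp at h0
    linear_combination h0
  rw [eval_conicParam]
  funext i
  have key : -(v 0) / (b * (v 1 / v 0) + c) * -(b * (v 1 / v 0) + c) = v 0 := by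
    rw [mul_neg, div_mul_cancel₀ _ hd', neg_neg]
  fin_cases i
  · exact key.symm
  · show v 1 = -(v 0) / (b * (v 1 / v 0) + c) * (-(b * (v 1 / v 0) + c) * (v 1 / v 0))
    rw [← mul_assoc, key, mul_div_cancel₀ _ hx]
  · show v 2 = -(v 0) / (b * (v 1 / v 0) + c) * (a * (v 1 / v 0))
    rw [div_mul_eq_mul_div, eq_div_iff hd']
    field_simp
    linear_combination hv

theorem conic_dvd [IsAlgClosed k] {a b c : k} (ha : a ≠ 0) (hb : b ≠ 0) (hc : c ≠ 0)
    {h : MvPolynomial (Fin 3) k} {e : ℕ} (hh : h.IsHomogeneous e)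
    (h0 : eval (Pi.single 0 1) h = 0) (h1 : eval (Pi.single 1 1) h = 0) (h2 : eval (Pi.single 2 1) h = 0)
    (hz : subst (conicParam a b c) h = 0) : conic a b c ∣ h := by
  refine dvd_of_vanish (conic_prime ha hb hc) fun v hv => ?_
  by_cases hx : v 0 = 0
  · rw [eval_conic, hx, mul_zero, zero_add, mul_eq_zero, mul_eq_zero] at hv
    rcases hv with (hv | hv) | hv
    · exact absurd hv hb
    · rw [show v = v 2 • (Pi.single 2 1 : Fin 3 → k) by funext i; fin_cases i <;> simp [hx, hv], eval_smul_form hh, h2, mul_zero]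
    · rw [show v = v 1 • (Pi.single 1 1 : Fin 3 → k) by funext i; fin_cases i <;> simp [hx, hv], eval_smul_form hh, h1, mul_zero]
  · obtain ⟨-, hv'⟩ := conic_param_smul ha hc hv hx
    rw [hv', eval_smul_form hh, ← eval_subst, hz, Polynomial.eval_zero, mul_zero]

theorem exists_two_lin (r : Fin 2 → Fin 3 → k) : ∃ t : Fin 3 → k, t ≠ 0 ∧ ∀ i, ∑ j, r i j * t j = 0 := by
  let A : Matrix (Fin 2) (Fin 3) k := fun i j => r i j
  have h : LinearMap.ker A.mulVecLin ≠ ⊥ := by
    refine LinearMap.ker_ne_bot_of_finrank_lt ?_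
    rw [Module.finrank_fin_fun, Module.finrank_fin_fun]
    norm_num
  obtain ⟨t, ht, ht0⟩ := Submodule.exists_mem_ne_zero_of_ne_bot h
  exact ⟨t, ht0, fun i => congrFun (LinearMap.mem_ker.1 ht) i⟩

/-- No five singular points in general position, in normalised coordinates. -/
theorem false_of_five_normalised [IsAlgClosed k] (g : MvPolynomial (Fin 3) k) (hg : g.IsHomogeneous 4)
    (hsq : Squarefree g) (w : Fin 2 → Fin 3 → k) (hw : ∀ i j, w i j ≠ 0)
    (h01 : w 0 1 * w 1 0 ≠ w 0 0 * w 1 1) (h12 : w 0 1 * w 1 2 ≠ w 0 2 * w 1 1)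
    (h02 : w 0 0 * w 1 2 ≠ w 0 2 * w 1 0)
    (hs : ∀ j, SingAt g (Pi.single j 1)) (hs' : ∀ i, SingAt g (w i)) : False := by
  classical
  obtain ⟨t, ht0, ht⟩ := exists_two_lin fun i : Fin 2 => ![w i 0 * w i 1, w i 1 * w i 2, w i 2 * w i 0]
  obtain ⟨a, b, c, rfl⟩ : ∃ a b c, t = ![a, b, c] := ⟨t 0, t 1, t 2, by funext i; fin_cases i <;> rfl⟩
  have hQw : ∀ i, eval (w i) (conic a b c) = 0 := fun i => by
    have h := ht i
    rw [Fin.sum_univ_three] at h
    simp at h
    rw [eval_conic]
    linear_combination h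
  have hE : ∀ i, (a * w i 1 + c * w i 2) * w i 0 + b * w i 1 * w i 2 = 0 := fun i => by rw [← eval_conic, hQw i]
  have ha : a ≠ 0 := by
    intro ha; subst ha
    have e0 := hE 0; have e1 := hE 1
    have f0 : c * w 0 0 + b * w 0 1 = 0 := (mul_eq_zero.1 (by linear_combination e0 :
      (c * w 0 0 + b * w 0 1) * w 0 2 = 0)).resolve_right (hw 0 2)
    have f1 : c * w 1 0 + b * w 1 1 = 0 := (mul_eq_zero.1 (by linear_combination e1 :
      (c * w 1 0 + b * w 1 1) * w 1 2 = 0)).resolve_right (hw 1 2)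
    have hc : c * (w 0 1 * w 1 0 - w 0 0 * w 1 1) = 0 := by linear_combination (w 0 1) * f1 - (w 1 1) * f0
    have hc0 : c = 0 := (mul_eq_zero.1 hc).resolve_right (sub_ne_zero.2 h01)
    subst hc0
    have hb0 : b = 0 := (mul_eq_zero.1 (by simpa using f0 : b * w 0 1 = 0)).resolve_right (hw 0 1)
    subst hb0
    exact ht0 (by funext i; fin_cases i <;> rfl)
  have hb : b ≠ 0 := by
    intro hb; subst hb
    have e0 := hE 0; have e1 := hE 1
    have f0 : a * w 0 1 + c * w 0 2 = 0 := (mul_eq_zero.1 (by linear_combination e0 :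
      (a * w 0 1 + c * w 0 2) * w 0 0 = 0)).resolve_right (hw 0 0)
    have f1 : a * w 1 1 + c * w 1 2 = 0 := (mul_eq_zero.1 (by linear_combination e1 :
      (a * w 1 1 + c * w 1 2) * w 1 0 = 0)).resolve_right (hw 1 0)
    have hc : a * (w 0 1 * w 1 2 - w 0 2 * w 1 1) = 0 := by linear_combination (w 1 2) * f0 - (w 0 2) * f1
    exact ha ((mul_eq_zero.1 hc).resolve_right (sub_ne_zero.2 h12))
  have hc : c ≠ 0 := by
    intro hc; subst hc
    have e0 := hE 0; have e1 := hE 1
    have f0 : a * w 0 0 + b * w 0 2 = 0 := (mul_eq_zero.1 (by linear_combination e0 :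
      (a * w 0 0 + b * w 0 2) * w 0 1 = 0)).resolve_right (hw 0 1)
    have f1 : a * w 1 0 + b * w 1 2 = 0 := (mul_eq_zero.1 (by linear_combination e1 :
      (a * w 1 0 + b * w 1 2) * w 1 1 = 0)).resolve_right (hw 1 1)
    have h : a * (w 0 0 * w 1 2 - w 0 2 * w 1 0) = 0 := by linear_combination (w 1 2) * f0 - (w 0 2) * f1
    exact ha ((mul_eq_zero.1 h).resolve_right (sub_ne_zero.2 h02))
  let T : Finset k := {0, -c / b, w 0 1 / w 0 0, w 1 1 / w 1 0}
  have hne : ∀ i, w i 1 / w i 0 ≠ 0 ∧ w i 1 / w i 0 ≠ -c / b := fun i => by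
    refine ⟨div_ne_zero (hw i 1) (hw i 0), fun h => ?_⟩
    obtain ⟨hd, -⟩ := conic_param_smul ha hc (hQw i) (hw i 0)
    rw [div_eq_div_iff (hw i 0) hb] at h
    exact hd (by linear_combination h)
  have hdist : w 0 1 / w 0 0 ≠ w 1 1 / w 1 0 := fun h => by
    rw [div_eq_div_iff (hw 0 0) (hw 1 0)] at h
    exact h01 (by linear_combination h)
  have hT : T.card = 4 := by
    simp only [T]
    rw [Finset.card_insert_of_notMem, Finset.card_insert_of_notMem, Finset.card_insert_of_notMem, Finset.card_singleton]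
    · simp [hdist]
    · simp [(hne 0).2.symm, (hne 1).2.symm]
    · have h0 : (0 : k) ≠ -c / b := (div_ne_zero (neg_ne_zero.2 hc) hb).symm
      simp only [Finset.mem_insert, Finset.mem_singleton, not_or]
      exact ⟨h0, (hne 0).1.symm, (hne 1).1.symm⟩
  -- points of the parametrisation
  have hp : ∀ (h : MvPolynomial (Fin 3) k) (e : ℕ), h.IsHomogeneous e →
      ((∀ j, SingAt h (Pi.single j 1)) → (∀ i, SingAt h (w i)) →
        ∀ s ∈ T, SingAt h (fun i => (conicParam a b c i).eval s)) ∧
      ((∀ j, eval (Pi.single j 1) h = 0) → (∀ i, eval (w i) h = 0) →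
        ∀ s ∈ T, eval (fun i => (conicParam a b c i).eval s) h = 0) := by
    intro h e hh
    have hpt : ∀ s ∈ T, ∃ (l : k) (v : Fin 3 → k), ((∃ j, v = Pi.single j 1) ∨ ∃ i, v = w i) ∧
        (fun i => (conicParam a b c i).eval s) = l • v := by
      intro s hsT
      simp only [T, Finset.mem_insert, Finset.mem_singleton] at hsT
      rcases hsT with rfl | rfl | rfl | rfl
      · refine ⟨-c, Pi.single 0 1, Or.inl ⟨0, rfl⟩, ?_⟩
        rw [eval_conicParam]
        funext i
        fin_cases i <;> simp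
      · refine ⟨a * (-c / b), Pi.single 2 1, Or.inl ⟨2, rfl⟩, ?_⟩
        rw [eval_conicParam]
        funext i
        fin_cases i <;> simp [mul_div_cancel₀ _ hb]
      all_goals
        first
        | (obtain ⟨hd, hv⟩ := conic_param_smul ha hc (hQw 0) (hw 0 0)
           refine ⟨(-(w 0 0) / (b * (w 0 1 / w 0 0) + c))⁻¹, w 0, Or.inr ⟨0, rfl⟩, ?_⟩
           have hl : -(w 0 0) / (b * (w 0 1 / w 0 0) + c) ≠ 0 := fun hl => hw 0 0 (by rw [hv, hl, zero_smul]; rfl)
           exact (inv_smul_eq_iff₀ hl).2 hv |>.symm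
           done)
        | (obtain ⟨hd, hv⟩ := conic_param_smul ha hc (hQw 1) (hw 1 0)
           refine ⟨(-(w 1 0) / (b * (w 1 1 / w 1 0) + c))⁻¹, w 1, Or.inr ⟨1, rfl⟩, ?_⟩
           have hl : -(w 1 0) / (b * (w 1 1 / w 1 0) + c) ≠ 0 := fun hl => hw 1 0 (by rw [hv, hl, zero_smul]; rfl)
           exact (inv_smul_eq_iff₀ hl).2 hv |>.symm
           done)
    refine ⟨fun h1 h2 s hsT => ?_, fun h1 h2 s hsT => ?_⟩ <;>
      obtain ⟨l, v, hv, heq⟩ := hpt s hsT <;> rw [heq]
    · rcases hv with ⟨j, rfl⟩ | ⟨i, rfl⟩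
      · exact (h1 j).smul hh l
      · exact (h2 i).smul hh l
    · rw [eval_smul_form hh]
      rcases hv with ⟨j, rfl⟩ | ⟨i, rfl⟩
      · rw [h1 j, mul_zero]
      · rw [h2 i, mul_zero]
  have htop : ∀ (h : MvPolynomial (Fin 3) k) (e : ℕ), h.IsHomogeneous e → eval (Pi.single 1 1) h = 0 →
      (subst (conicParam a b c) h).natDegree ≤ 2 * e - 1 := by
    intro h e hh h1
    have hd := natDegree_subst_le (natDegree_conicParam a b c) hh
    rw [coeff_conicParam, show (![0, -b, 0] : Fin 3 → k) = (-b) • Pi.single 1 1 by funext i; fin_cases i <;> simp,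
      eval_smul_form hh, h1, mul_zero] at hd
    refine Nat.le_of_not_lt fun hlt => ?_
    have heq : (subst (conicParam a b c) h).natDegree = 2 * e := by omega
    have hne0 : subst (conicParam a b c) h ≠ 0 := fun h0 => by rw [h0, Polynomial.natDegree_zero] at hlt; omega
    exact Polynomial.leadingCoeff_ne_zero.2 hne0 (by rw [Polynomial.leadingCoeff, heq, hd.2])
  -- the conic divides the quartic
  have hdvd : conic a b c ∣ g := by
    refine conic_dvd ha hb hc hg (hs 0).1 (hs 1).1 (hs 2).1 (eq_zero_of_double_roots (htop g 4 hg (hs 1).1) T ?_ (by omega))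
    exact fun s hsT => double_root_of_singAt _ s ((hp g 4 hg).1 hs hs' s hsT)
  obtain ⟨q, rfl⟩ := hdvd
  have hq : q.IsHomogeneous 2 := isHomogeneous_of_mul (conic_isHomogeneous a b c) (conic_prime ha hb hc).ne_zero hg
  have hkey : ∀ v, eval v (conic a b c) = 0 → SingAt (conic a b c * q) v →
      (∃ i, eval v (pderiv i (conic a b c)) ≠ 0) → eval v q = 0 := by
    intro v hv hsing ⟨i, hi⟩
    have := hsing.2 i
    rw [pderiv_mul, map_add, map_mul, map_mul, hv, zero_mul, add_zero] at this
    exact (mul_eq_zero.1 this).resolve_left hi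
  have hq0 : ∀ j, eval (Pi.single j 1) q = 0 := by
    intro j
    refine hkey _ (by rw [eval_conic]; fin_cases j <;> simp) (hs j) ?_
    fin_cases j
    · exact ⟨1, by simpa [conic, pderiv_mul] using ha⟩
    · exact ⟨2, by simpa [conic, pderiv_mul] using hb⟩
    · exact ⟨0, by simpa [conic, pderiv_mul] using hc⟩
  have hqw : ∀ i, eval (w i) q = 0 := fun i => by
    refine hkey _ (hQw i) (hs' i) ⟨2, ?_⟩
    obtain ⟨hd, -⟩ := conic_param_smul ha hc (hQw i) (hw i 0)
    simpa [conic, pderiv_mul, add_comm, mul_comm] using hd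
  have hdvd2 : conic a b c ∣ q := by
    refine conic_dvd ha hb hc hq (hq0 0) (hq0 1) (hq0 2) (eq_zero_of_roots (htop q 2 hq (hq0 1)) T ?_ (by omega))
    intro s hsT
    rw [eval_subst]
    exact (hp q 2 hq).2 hq0 hqw s hsT
  exact (conic_prime ha hb hc).not_unit (hsq _ (mul_dvd_mul_left _ hdvd2))

end Groth.Agent.QuarticSing
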