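import Groth.Agent.DiscForm.Param
import Mathlib.RingTheory.MvPolynomial.IrreducibleQuadratic
import Mathlib.RingTheory.Polynomial.UniqueFactorization
import Mathlib.Algebra.Squarefree.Basic
import Mathlib.LinearAlgebra.Projectivization.Basic

/-!
# Restricting forms to parametrised curves: roots and double roots
-/

noncomputable section

set_option autoImplicit false
set_option linter.style.haveILetI false
set_option linter.unusedSectionVars false

open MvPolynomial

namespace Groth.Agent.QuarticSing

universe u

variable {k : Type u} [Field k] {n : ℕ}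

/-- Substitution of a parametrisation. -/
def subst (φ : Fin (n + 1) → Polynomial k) : MvPolynomial (Fin (n + 1)) k →ₐ[k] Polynomial k := aeval φ

theorem eval_subst (φ : Fin (n + 1) → Polynomial k) (h : MvPolynomial (Fin (n + 1)) k) (s : k) :
    (subst φ h).eval s = eval (fun i => (φ i).eval s) h := by
  have e : ((Polynomial.aeval s).comp (subst φ)) = aeval (fun i => (φ i).eval s) :=
    MvPolynomial.algHom_ext fun i => by simp [subst]
  have e' := AlgHom.congr_fun e h
  rw [AlgHom.comp_apply, aeval_eq_eval] at e'
  simpa [Polynomial.coe_aeval_eq_eval] using e'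

theorem derivative_subst (φ : Fin (n + 1) → Polynomial k) (h : MvPolynomial (Fin (n + 1)) k) :
    Polynomial.derivative (subst φ h) = ∑ i, subst φ (pderiv i h) * Polynomial.derivative (φ i) := by
  classical
  induction h using MvPolynomial.induction_on with
  | C a => simp [subst]
  | add p q hp hq => simp only [map_add, hp, hq, add_mul, Finset.sum_add_distrib]
  | mul_X p l hp =>
    rw [map_mul, Polynomial.derivative_mul, hp, Finset.sum_mul]
    have hterm : ∀ j, subst φ (pderiv j (p * X l)) * Polynomial.derivative (φ j)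
        = subst φ (pderiv j p) * Polynomial.derivative (φ j) * subst φ (X l)
          + (if j = l then subst φ p * Polynomial.derivative (φ l) else 0) := by
      intro j
      rw [pderiv_mul, map_add, map_mul, map_mul, add_mul]
      by_cases hj : j = l
      · subst hj; rw [if_pos rfl, pderiv_X_self, map_one]; ring
      · rw [if_neg hj, pderiv_X_of_ne (Ne.symm hj), map_zero, mul_zero, zero_mul]; ring
    simp only [hterm, Finset.sum_add_distrib, Finset.sum_ite_eq', Finset.mem_univ, if_true]
    congr 1
    simp [subst]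

theorem natDegree_subst_le {φ : Fin (n + 1) → Polynomial k} {D : ℕ} (hφ : ∀ i, (φ i).natDegree ≤ D)
    {h : MvPolynomial (Fin (n + 1)) k} {e : ℕ} (hh : h.IsHomogeneous e) :
    (subst φ h).natDegree ≤ D * e ∧ (subst φ h).coeff (D * e) = eval (fun i => (φ i).coeff D) h := by
  classical
  have key : ∀ m : Fin (n + 1) →₀ ℕ, (∏ i, φ i ^ m i).natDegree ≤ D * m.degree ∧
      (∏ i, φ i ^ m i).coeff (D * m.degree) = ∏ i, (φ i).coeff D ^ m i := by
    intro m
    rw [Finsupp.degree_eq_sum]
    induction (Finset.univ : Finset (Fin (n + 1))) using Finset.induction with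
    | empty => simp
    | insert a s ha ih =>
      have hd : (φ a ^ m a).natDegree ≤ D * m a :=
        (Polynomial.natDegree_pow_le).trans (by rw [mul_comm D]; exact Nat.mul_le_mul_left _ (hφ a))
      rw [Finset.prod_insert ha, Finset.prod_insert ha, Finset.sum_insert ha, mul_add]
      refine ⟨Polynomial.natDegree_mul_le.trans (add_le_add hd ih.1), ?_⟩
      rw [Polynomial.coeff_mul_add_eq_of_natDegree_le hd ih.1, ih.2, mul_comm D (m a),
        Polynomial.coeff_pow_of_natDegree_le (hφ a)]
  have hsum : subst φ h = ∑ m ∈ h.support, Polynomial.C (coeff m h) * ∏ i, φ i ^ m i := by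
    conv_lhs => rw [as_sum h, map_sum]
    refine Finset.sum_congr rfl fun m _ => ?_
    rw [subst, aeval_monomial, Finsupp.prod_fintype _ _ (fun i => pow_zero _)]
    rfl
  have hdeg : ∀ m ∈ h.support, m.degree = e := fun m hm => (hh.degree_eq_sum_deg_support hm).symm
  rw [hsum]
  refine ⟨Polynomial.natDegree_sum_le_of_forall_le _ _ fun m hm => ?_, ?_⟩
  · refine (Polynomial.natDegree_C_mul_le _ _).trans ?_
    rw [← hdeg m hm]
    exact (key m).1
  · rw [Polynomial.finsetSum_coeff, eval_eq']
    refine Finset.sum_congr rfl fun m hm => ?_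
    rw [Polynomial.coeff_C_mul, ← hdeg m hm, (key m).2]

theorem eq_zero_of_roots {g : Polynomial k} {d : ℕ} (hdeg : g.natDegree ≤ d) (T : Finset k)
    (hT : ∀ t ∈ T, g.eval t = 0) (hcard : d < T.card) : g = 0 :=
  Polynomial.eq_zero_of_natDegree_lt_card_of_eval_eq_zero' g T hT (lt_of_le_of_lt hdeg hcard)

theorem eq_zero_of_double_roots {g : Polynomial k} {d : ℕ} (hdeg : g.natDegree ≤ d) (T : Finset k)
    (hT : ∀ t ∈ T, g.eval t = 0 ∧ (Polynomial.derivative g).eval t = 0) (hcard : d < 2 * T.card) : g = 0 := by
  classical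
  by_contra hg
  have hle : T.val + T.val ≤ g.roots := by
    rw [Multiset.le_iff_count]
    intro t
    rw [Multiset.count_add, Polynomial.count_roots]
    by_cases ht : t ∈ T
    · rw [Multiset.count_eq_one_of_mem T.nodup ht]
      exact (Polynomial.one_lt_rootMultiplicity_iff_isRoot hg).2 (hT t ht)
    · rw [Multiset.count_eq_zero_of_notMem ht]
      exact Nat.zero_le _
  have h1 := (Multiset.card_le_card hle).trans (Polynomial.card_roots' g)
  rw [Multiset.card_add, Finset.card_val] at h1
  omega

/-- A singular zero. -/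
def SingAt (h : MvPolynomial (Fin (n + 1)) k) (v : Fin (n + 1) → k) : Prop :=
  eval v h = 0 ∧ ∀ i, eval v (pderiv i h) = 0

theorem double_root_of_singAt {h : MvPolynomial (Fin (n + 1)) k} (φ : Fin (n + 1) → Polynomial k) (s : k)
    (hs : SingAt h (fun i => (φ i).eval s)) :
    (subst φ h).eval s = 0 ∧ (Polynomial.derivative (subst φ h)).eval s = 0 := by
  refine ⟨by rw [eval_subst]; exact hs.1, ?_⟩
  rw [derivative_subst, Polynomial.eval_finsetSum]
  exact Finset.sum_eq_zero fun i _ => by rw [Polynomial.eval_mul, eval_subst, hs.2 i, zero_mul]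

theorem eval_smul_form {h : MvPolynomial (Fin (n + 1)) k} {e : ℕ} (hh : h.IsHomogeneous e) (c : k)
    (v : Fin (n + 1) → k) : eval (c • v) h = c ^ e * eval v h := by
  classical
  rw [eval_eq', eval_eq', Finset.mul_sum]
  refine Finset.sum_congr rfl fun m hm => ?_
  simp only [Pi.smul_apply, smul_eq_mul, mul_pow, Finset.prod_mul_distrib, Finset.prod_pow_eq_pow_sum]
  have hd : m.degree = e := (hh.degree_eq_sum_deg_support hm).symm
  rw [Finsupp.degree_eq_sum] at hd
  rw [hd]
  ring

theorem SingAt.smul {h : MvPolynomial (Fin (n + 1)) k} {e : ℕ} (hh : h.IsHomogeneous e) {v : Fin (n + 1) → k}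
    (hv : SingAt h v) (c : k) : SingAt h (c • v) :=
  ⟨by rw [eval_smul_form hh, hv.1, mul_zero],
    fun i => by rw [eval_smul_form (DiscForm.pderiv_isHomogeneous hh i), hv.2 i, mul_zero]⟩

/-- The line through two points. -/
def lineParam (p q : Fin (n + 1) → k) (i : Fin (n + 1)) : Polynomial k :=
  Polynomial.C (p i) + Polynomial.C (q i) * Polynomial.X

theorem eval_lineParam (p q : Fin (n + 1) → k) (s : k) :
    (fun i => (lineParam p q i).eval s) = p + s • q := by
  funext i
  rw [lineParam, Polynomial.eval_add, Polynomial.eval_C, Polynomial.eval_mul, Polynomial.eval_C, Polynomial.eval_X,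
    Pi.add_apply, Pi.smul_apply, smul_eq_mul, mul_comm]

theorem natDegree_lineParam (p q : Fin (n + 1) → k) (i : Fin (n + 1)) : (lineParam p q i).natDegree ≤ 1 := by
  rw [lineParam, add_comm]
  exact Polynomial.natDegree_linear_le

theorem coeff_lineParam (p q : Fin (n + 1) → k) : (fun i => (lineParam p q i).coeff 1) = q := by
  funext i
  rw [lineParam, Polynomial.coeff_add, Polynomial.coeff_C, if_neg one_ne_zero, zero_add, Polynomial.coeff_C_mul,
    Polynomial.coeff_X_one, mul_one]

theorem natDegree_line {h : MvPolynomial (Fin (n + 1)) k} {e : ℕ} (hh : h.IsHomogeneous e)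
    (p q : Fin (n + 1) → k) (hq : eval q h = 0) : (subst (lineParam p q) h).natDegree ≤ e - 1 := by
  have h1 := natDegree_subst_le (natDegree_lineParam p q) hh
  rw [one_mul, coeff_lineParam] at h1
  refine Nat.le_of_not_lt fun hlt => ?_
  have heq : (subst (lineParam p q) h).natDegree = e := by omega
  have hne : subst (lineParam p q) h ≠ 0 := fun h0 => by rw [h0, Polynomial.natDegree_zero] at hlt; omega
  exact Polynomial.leadingCoeff_ne_zero.2 hne (by rw [Polynomial.leadingCoeff, heq, h1.2, hq])

theorem vanish_span_pair {h : MvPolynomial (Fin (n + 1)) k} {e : ℕ} (hh : h.IsHomogeneous e)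
    (p q : Fin (n + 1) → k) (hq : eval q h = 0) (h0 : subst (lineParam p q) h = 0) (α β : k) :
    eval (α • p + β • q) h = 0 := by
  by_cases hα : α = 0
  · rw [hα, zero_smul, zero_add, eval_smul_form hh, hq, mul_zero]
  · have h1 : eval (p + (β / α) • q) h = 0 := by rw [← eval_lineParam, ← eval_subst, h0, Polynomial.eval_zero]
    have h2 : α • p + β • q = α • (p + (β / α) • q) := by
      rw [smul_add, smul_smul, mul_div_cancel₀ _ hα]
    rw [h2, eval_smul_form hh, h1, mul_zero]

/-- A linear form. -/
def linForm (c : Fin (n + 1) → k) : MvPolynomial (Fin (n + 1)) k := ∑ i, C (c i) * X i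

theorem eval_linForm (c v : Fin (n + 1) → k) : eval v (linForm c) = ∑ i, c i * v i := by
  simp [linForm, map_sum]

theorem linForm_isHomogeneous (c : Fin (n + 1) → k) : (linForm c).IsHomogeneous 1 :=
  IsHomogeneous.sum _ _ _ fun i _ => isHomogeneous_C_mul_X _ _

theorem pderiv_linForm (c : Fin (n + 1) → k) (i : Fin (n + 1)) : pderiv i (linForm c) = C (c i) := by
  classical
  rw [linForm, map_sum, Finset.sum_eq_single i (fun b _ hb => by simp [pderiv_X_of_ne hb]) (by simp)]
  simp

theorem linForm_prime {c : Fin (n + 1) → k} (hc : c ≠ 0) : Prime (linForm c) := by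
  refine irreducible_iff_prime.1 (MvPolynomial.irreducible_of_totalDegree_eq_one ?_ fun x hx => ?_)
  · refine (linForm_isHomogeneous c).totalDegree fun h0 => hc (funext fun i => ?_)
    have := congrArg (pderiv i) h0
    rw [pderiv_linForm, map_zero, C_eq_zero] at this
    exact this
  · refine isUnit_iff_ne_zero.2 fun hx0 => hc (funext fun i => ?_)
    subst hx0
    have hall : linForm c = 0 := by ext m; simpa using hx m
    have := congrArg (pderiv i) hall
    rw [pderiv_linForm, map_zero, C_eq_zero] at this
    exact this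

theorem dvd_of_vanish [IsAlgClosed k] {g h : MvPolynomial (Fin (n + 1)) k} (hg : Prime g)
    (hv : ∀ v, eval v g = 0 → eval v h = 0) : g ∣ h := by
  have hp : (Ideal.span {g}).IsPrime := (Ideal.span_singleton_prime hg.ne_zero).2 hg
  rw [← Ideal.mem_span_singleton, ← hp.radical, ← MvPolynomial.vanishingIdeal_zeroLocus_eq_radical (K := k),
    mem_vanishingIdeal_iff]
  intro v hv'
  rw [aeval_eq_eval]
  refine hv v ?_
  have := hv' g (Ideal.subset_span rfl)
  rwa [aeval_eq_eval] at this

theorem exists_linForm_dvd [IsAlgClosed k] {h : MvPolynomial (Fin 3) k} {e : ℕ} (hh : h.IsHomogeneous e)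
    (p q : Fin 3 → k) (hli : LinearIndependent k ![p, q]) (hq : eval q h = 0)
    (h0 : subst (lineParam p q) h = 0) :
    ∃ c : Fin 3 → k, c ≠ 0 ∧ linForm c ∣ h := by
  let W := Submodule.span k (Set.range ![p, q])
  have hW : Module.finrank k W = 2 := by rw [finrank_span_eq_card hli]; rfl
  have hne : W ≠ ⊤ := fun ht => by rw [ht, finrank_top, Module.finrank_fin_fun] at hW; omega
  obtain ⟨x, hx⟩ : ∃ x, x ∉ W := by
    by_contra hcon
    push Not at hcon
    exact hne (eq_top_iff.2 fun x _ => hcon x)
  obtain ⟨f, hf, hfx⟩ : ∃ f : Module.Dual k (Fin 3 → k), f x ≠ 0 ∧ W.map f = ⊥ := by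
    obtain ⟨f, h1, h2⟩ := Submodule.exists_dual_map_eq_bot_of_notMem hx inferInstance
    exact ⟨f, h1, h2⟩
  let c : Fin 3 → k := fun i => f (Pi.single i 1)
  have hev : ∀ v, eval v (linForm c) = f v := fun v => by
    rw [eval_linForm]
    conv_rhs => rw [← Finset.univ_sum_single v, map_sum]
    refine Finset.sum_congr rfl fun i _ => ?_
    rw [show (Pi.single i (v i) : Fin 3 → k) = v i • Pi.single i 1 by rw [← Pi.single_smul, smul_eq_mul, mul_one],
      map_smul, smul_eq_mul, mul_comm]
  have hc : c ≠ 0 := fun h => hf (by rw [← hev, h]; simp [linForm])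
  have hle : W ≤ LinearMap.ker f := fun w hw => by
    have : f w ∈ W.map f := Submodule.mem_map_of_mem hw
    rw [hfx, Submodule.mem_bot] at this
    exact this
  have hker : LinearMap.ker f = W := by
    refine (Submodule.eq_of_le_of_finrank_le hle ?_).symm
    have h1 := LinearMap.finrank_range_add_finrank_ker f
    have h2 : 0 < Module.finrank k (LinearMap.range f) := by
      rw [Module.finrank_pos_iff]
      exact ⟨⟨f x, LinearMap.mem_range_self f x⟩, 0, fun h => hf (congrArg Subtype.val h)⟩
    rw [Module.finrank_fin_fun] at h1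
    omega
  refine ⟨c, hc, dvd_of_vanish (linForm_prime hc) fun v hv => ?_⟩
  rw [hev] at hv
  have hmem : v ∈ W := hker ▸ LinearMap.mem_ker.2 hv
  obtain ⟨a, ha⟩ := (Submodule.mem_span_range_iff_exists_fun k).1 hmem
  rw [← ha, Fin.sum_univ_two]
  exact vanish_span_pair hh p q hq h0 _ _

theorem isHomogeneous_of_linForm_mul {c : Fin (n + 1) → k} (hc : c ≠ 0) {C' : MvPolynomial (Fin (n + 1)) k} {e : ℕ}
    (h : (linForm c * C').IsHomogeneous (e + 1)) : C'.IsHomogeneous e := by
  classical
  have hterm : ∀ j, linForm c * homogeneousComponent j C' = homogeneousComponent (j + 1) (linForm c * C') := by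
    intro j
    rw [mul_comm (linForm c), mul_comm (linForm c)]
    conv_rhs => rw [← sum_homogeneousComponent C', Finset.sum_mul, map_sum]
    rw [Finset.sum_eq_single j]
    · rw [homogeneousComponent_of_mem ((homogeneousComponent_isHomogeneous j C').mul (linForm_isHomogeneous c)), if_pos rfl]
    · intro b _ hb
      rw [homogeneousComponent_of_mem ((homogeneousComponent_isHomogeneous b C').mul (linForm_isHomogeneous c)),
        if_neg (by omega)]
    · intro hj
      rw [homogeneousComponent_eq_zero j C' (by rw [Finset.mem_range] at hj; omega), zero_mul, map_zero]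
  have hz : ∀ j, j ≠ e → homogeneousComponent j C' = 0 := fun j hj => by
    have h1 := hterm j
    rw [homogeneousComponent_of_mem h, if_neg (by omega)] at h1
    exact (mul_eq_zero.1 h1).resolve_left (linForm_prime hc).ne_zero
  rw [← sum_homogeneousComponent C']
  refine IsHomogeneous.sum _ _ _ fun j _ => ?_
  by_cases hj : j = e
  · exact hj ▸ homogeneousComponent_isHomogeneous j C'
  · rw [hz j hj]; exact isHomogeneous_zero _ _ _

end Groth.Agent.QuarticSing
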